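import Mathlib

/-! Elementary lemmas: finite unions of subspaces, graded algebras generated by homogeneous
elements, invariant lifts. -/

universe u v

namespace Groth.Agent.ZeroCycLib

theorem exists_forall_notMem_of_card_le {K M : Type*} {ι : Type*} [Field K] [AddCommGroup M]
    [Module K M] (s : Finset ι) (p : ι → Submodule K M) (h₁ : ∀ i ∈ s, p i ≠ ⊤)
    (h₂ : (s.card : Cardinal) ≤ Cardinal.mk K) : ∃ x, ∀ i ∈ s, x ∉ p i := by
  classical
  induction s using Finset.induction_on with
  | empty => exact ⟨0, by simp⟩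
  | insert j s hj ih =>
    obtain ⟨x, hx⟩ := ih (fun i hi => h₁ i (Finset.mem_insert_of_mem hi))
      (le_trans (by exact_mod_cast Finset.card_le_card (Finset.subset_insert j s)) h₂)
    by_cases hxj : x ∈ p j
    · obtain ⟨y, hy⟩ : ∃ y, y ∉ p j := by
        by_contra! h
        exact h₁ j (Finset.mem_insert_self _ _) (eq_top_iff.mpr fun z _ => h z)
      by_contra! hcon
      have key : ∀ t : K, ∃ i : s, y + t • x ∈ p i := fun t => by
        obtain ⟨i, hi, hm⟩ := hcon (y + t • x)
        rcases Finset.mem_insert.mp hi with rfl | hi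
        · exact absurd (((p i).add_mem_iff_left ((p i).smul_mem t hxj)).mp hm) hy
        · exact ⟨⟨i, hi⟩, hm⟩
      choose f hf using key
      have hinj : Function.Injective f := fun t₁ t₂ h => by
        by_contra hne
        have h3 := (p (f t₂)).sub_mem (h ▸ hf t₁) (hf t₂)
        rw [add_sub_add_left_eq_sub, ← sub_smul, (p _).smul_mem_iff (sub_ne_zero.mpr hne)] at h3
        exact hx _ (f t₂).2 h3
      haveI : Finite K := Finite.of_injective f hinj
      rw [← Nat.cast_card, Nat.cast_le, Finset.card_insert_of_notMem hj] at h₂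
      have h4 := Nat.card_le_card_of_injective f hinj
      rw [Nat.card_eq_finsetCard] at h4
      omega
    · exact ⟨x, fun i hi => by
        rcases Finset.mem_insert.mp hi with rfl | hi
        exacts [hxj, hx i hi]⟩

section Graded

open DirectSum

variable {R A : Type u} [CommRing R] [CommRing A] [Algebra R A] (𝒜 : ℕ → Submodule R A)
  [GradedAlgebra 𝒜] {s : ℕ} (f : Fin s → A) (deg : Fin s → ℕ)

theorem monomial_mem (hf : ∀ i, f i ∈ 𝒜 (deg i)) (e : Fin s → ℕ) :
    ∏ i, f i ^ e i ∈ 𝒜 (∑ i, e i * deg i) := by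
  apply SetLike.prod_mem_graded
  intro i _
  simpa using SetLike.pow_mem_graded (e i) (hf i)

theorem le_span_monomials (hf : ∀ i, f i ∈ 𝒜 (deg i))
    (hgen : Algebra.adjoin R (Set.range f) = ⊤) (n : ℕ) :
    𝒜 n ≤ Submodule.span R ((fun e : Fin s → ℕ => ∏ i, f i ^ e i) ''
      {e | ∑ i, e i * deg i = n}) := by
  classical
  intro a ha
  obtain ⟨P, hP⟩ : ∃ P : MvPolynomial (Fin s) R, MvPolynomial.aeval f P = a := by
    have : a ∈ (MvPolynomial.aeval (R := R) f).range := by
      rw [← Algebra.adjoin_range_eq_range_aeval, hgen]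
      trivial
    exact this
  have h1 : GradedRing.proj 𝒜 n a = a := by
    rw [GradedRing.proj_apply, DirectSum.decompose_of_mem_same 𝒜 ha]
  rw [← h1, ← hP, P.as_sum, map_sum, map_sum]
  refine Submodule.sum_mem _ fun m _ => ?_
  rw [MvPolynomial.aeval_monomial, Finsupp.prod_fintype _ _ (fun i => pow_zero _),
    ← Algebra.smul_def]
  have hm := monomial_mem 𝒜 f deg hf (⇑m)
  rw [GradedRing.proj_apply]
  by_cases h : ∑ i, m i * deg i = n
  · rw [DirectSum.decompose_of_mem_same 𝒜 (Submodule.smul_mem _ _ (h ▸ hm))]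
    exact Submodule.smul_mem _ _ (Submodule.subset_span ⟨⇑m, h, rfl⟩)
  · rw [DirectSum.decompose_of_mem_ne 𝒜 (Submodule.smul_mem _ _ hm) h]
    exact Submodule.zero_mem _

theorem mul_le (m n : ℕ) : 𝒜 m * 𝒜 n ≤ 𝒜 (m + n) :=
  Submodule.mul_le.mpr fun _ ha _ hb => SetLike.mul_mem_graded ha hb

theorem pow_le (m k : ℕ) (hk : k ≠ 0) : 𝒜 m ^ k ≤ 𝒜 (k * m) := by
  obtain ⟨k, rfl⟩ := Nat.exists_eq_succ_of_ne_zero hk
  clear hk
  induction k with
  | zero => simp
  | succ k ih =>
    rw [pow_succ, Nat.succ_mul]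
    exact (mul_le_mul' ih le_rfl).trans (mul_le 𝒜 _ _)

theorem le_mul_lcm (hdeg : ∀ i, 0 < deg i) (hf : ∀ i, f i ∈ 𝒜 (deg i))
    (hgen : Algebra.adjoin R (Set.range f) = ⊤) (n : ℕ)
    (hn : (s - 1) * (Finset.univ.lcm deg - 1) ≤ n) :
    𝒜 (n + Finset.univ.lcm deg) = 𝒜 n * 𝒜 (Finset.univ.lcm deg) := by
  classical
  refine le_antisymm ((le_span_monomials 𝒜 f deg hf hgen _).trans (Submodule.span_le.mpr ?_))
    (mul_le 𝒜 _ _)
  set L := Finset.univ.lcm deg with hL
  rintro _ ⟨e, he, rfl⟩
  simp only [Set.mem_ofPred_eq] at he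
  have hdvd : ∀ i, deg i ∣ L := fun i => Finset.dvd_lcm (Finset.mem_univ i)
  have hLpos : 0 < L := Nat.pos_of_ne_zero fun h => by
    rw [hL, Finset.lcm_eq_zero_iff] at h
    obtain ⟨i, -, hi⟩ := h
    exact (hdeg i).ne' hi
  by_cases hex : ∃ i, L ≤ e i * deg i
  · obtain ⟨i, hi⟩ := hex
    obtain ⟨q, hq⟩ := hdvd i
    have hqe : q ≤ e i := Nat.le_of_mul_le_mul_right (by rw [mul_comm q, ← hq]; exact hi) (hdeg i)
    let e' : Fin s → ℕ := Function.update e i (e i - q)
    have hsplit : ∏ j, f j ^ e j = (∏ j, f j ^ e' j) * f i ^ q := by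
      rw [← Finset.prod_erase_mul _ _ (Finset.mem_univ i),
        ← Finset.prod_erase_mul (f := fun j => f j ^ e' j) _ (Finset.mem_univ i),
        mul_assoc, Finset.prod_congr rfl (fun j hj => by
          simp only [e', Function.update_of_ne (Finset.ne_of_mem_erase hj)] : ∀ j ∈ Finset.univ.erase i,
            f j ^ e' j = f j ^ e j)]
      simp only [e', Function.update_self]
      rw [← pow_add, Nat.sub_add_cancel hqe]
    have hdeg' : ∑ j, e' j * deg j = n := by
      have h1 := Finset.sum_erase_add (f := fun j => e j * deg j) _ (Finset.mem_univ i)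
      rw [he] at h1
      rw [← Finset.sum_erase_add (f := fun j => e' j * deg j) _ (Finset.mem_univ i),
        Finset.sum_congr rfl (fun j hj => by
          simp only [e', Function.update_of_ne (Finset.ne_of_mem_erase hj)] : ∀ j ∈ Finset.univ.erase i,
            e' j * deg j = e j * deg j)]
      simp only [e', Function.update_self, Nat.sub_mul]
      rw [mul_comm q, ← hq]
      omega
    simp only [hsplit]
    refine Submodule.mul_mem_mul (hdeg' ▸ monomial_mem 𝒜 f deg hf e') ?_
    rw [hq, mul_comm]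
    simpa using SetLike.pow_mem_graded q (hf i)
  · exfalso
    push Not at hex
    have hle : ∀ i ∈ (Finset.univ : Finset (Fin s)), e i * deg i ≤ L - 1 := fun i _ => by
      have := hex i
      omega
    have h2 := Finset.sum_le_card_nsmul _ _ _ hle
    simp only [Finset.card_univ, Fintype.card_fin, smul_eq_mul] at h2
    rw [he] at h2
    cases s with
    | zero => simp at h2; omega
    | succ s =>
      rw [Nat.succ_mul] at h2
      simp at hn
      omega

theorem mul_lcm_eq_pow (hdeg : ∀ i, 0 < deg i) (hf : ∀ i, f i ∈ 𝒜 (deg i))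
    (hgen : Algebra.adjoin R (Set.range f) = ⊤) (a : ℕ) (ha : s - 1 ≤ a) (k : ℕ) :
    𝒜 (k * (a * Finset.univ.lcm deg)) = 𝒜 (a * Finset.univ.lcm deg) ^ k := by
  classical
  set L := Finset.univ.lcm deg with hL
  rcases Nat.eq_zero_or_pos k with rfl | hk
  · rw [Nat.zero_mul, pow_zero]
    refine le_antisymm ((le_span_monomials 𝒜 f deg hf hgen 0).trans (Submodule.span_le.mpr ?_))
      (Submodule.one_le.mpr SetLike.GradedOne.one_mem)
    rintro _ ⟨e, he, rfl⟩
    simp only [Set.mem_ofPred_eq, Finset.sum_eq_zero_iff, Finset.mem_univ, true_implies,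
      mul_eq_zero, (hdeg _).ne', or_false] at he
    simp only [he, pow_zero, Finset.prod_const_one]
    exact Submodule.one_le.mp le_rfl
  refine le_antisymm ?_ (pow_le 𝒜 _ k hk.ne')
  obtain ⟨k, rfl⟩ : ∃ k', k = k' + 1 := ⟨k - 1, by omega⟩
  clear hk
  induction k with
  | zero => simp
  | succ k ih =>
    rw [pow_succ']
    have step : ∀ m, 𝒜 ((a + m) * L) ≤ 𝒜 (a * L) * 𝒜 (m * L) := fun m => by
      induction m with
      | zero =>
        rw [Nat.add_zero]
        intro x hx
        have h1 : (1 : A) ∈ 𝒜 (0 * L) := by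
          rw [Nat.zero_mul]
          exact SetLike.GradedOne.one_mem
        simpa using Submodule.mul_mem_mul hx h1
      | succ m ihm =>
        rw [← Nat.add_assoc, Nat.succ_mul,
          le_mul_lcm 𝒜 f deg hdeg hf hgen ((a + m) * L) ?_, Nat.succ_mul]
        · refine (mul_le_mul' ihm le_rfl).trans ?_
          rw [mul_assoc]
          exact mul_le_mul' le_rfl (mul_le 𝒜 _ _)
        · exact Nat.mul_le_mul (by omega) (by omega)
    refine le_trans ?_ (mul_le_mul' le_rfl ih)
    have := step ((k + 1) * a)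
    rw [Nat.mul_assoc] at this
    convert this using 2
    ring

end Graded

theorem exists_invariant_lift {A : Type u} [CommRing A] {G : Type v} [Group G] [Fintype G]
    [MulSemiringAction G A] (p : ℕ) [Fact p.Prime]
    (hA : ∀ m : ℕ, ¬ p ∣ m → IsUnit (m : A))
    (I : Ideal A) (f : A) (hf : ∀ g : G, g • f - f ∈ I) :
    ∃ a : A, (∀ g : G, g • a = a) ∧ a - f ^ (p ^ (Fintype.card G).factorization p) ∈ I := by
  classical
  let P : Sylow p G := default
  let H : Subgroup G := P
  let N : A := ∏ h : H, (h : G) • f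
  have hN : ∀ (g : G), g • N - f ^ Fintype.card H ∈ I := fun g => by
    rw [← Ideal.Quotient.eq, map_pow, Finset.smul_prod', map_prod, ← Finset.card_univ,
      Finset.prod_congr rfl (fun h _ => ?_), Finset.prod_const]
    rw [← mul_smul, Ideal.Quotient.eq]
    exact hf _
  have hfix : ∀ h : H, (h : G) • N = N := fun h => by
    rw [Finset.smul_prod']
    exact Fintype.prod_equiv (Equiv.mulLeft h) _ _ (fun x => by simp [mul_smul])
  let F : G ⧸ H → A := Quotient.lift (fun g : G => g • N) (fun a b hab => by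
    have h := QuotientGroup.leftRel_apply.mp hab
    calc a • N = a • ((⟨a⁻¹ * b, h⟩ : H) : G) • N := by rw [hfix]
      _ = b • N := by rw [← mul_smul]; simp)
  have hF : ∀ (g : G) (q : G ⧸ H), g • F q = F (g • q) := fun g q => by
    induction q using QuotientGroup.induction_on with
    | _ x => exact (mul_smul g x N).symm
  have hindex : ¬ p ∣ Fintype.card (G ⧸ H) := by
    rw [← Nat.card_eq_fintype_card]
    exact Sylow.not_dvd_index P
  obtain ⟨c, hc⟩ := hA _ hindex
  have hcard : Fintype.card H = p ^ (Fintype.card G).factorization p := by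
    rw [← Nat.card_eq_fintype_card, Sylow.card_eq_multiplicity, Nat.card_eq_fintype_card]
  refine ⟨↑c⁻¹ * ∑ q, F q, fun g => ?_, ?_⟩
  · have hg : g • (↑c⁻¹ : A) = ↑c⁻¹ := by
      have h1 : g • (c : A) = c := by
        rw [hc]
        exact map_natCast (MulSemiringAction.toRingHom G A g) _
      calc g • (↑c⁻¹ : A) = g • (↑c⁻¹ : A) * (g • (c : A) * ↑c⁻¹) := by
            rw [h1, c.mul_inv, mul_one]
        _ = ↑c⁻¹ := by rw [← mul_assoc, ← smul_mul', c.inv_mul, smul_one, one_mul]
    rw [smul_mul', hg, Finset.smul_sum]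
    congr 1
    simp_rw [hF]
    exact Fintype.sum_equiv (MulAction.toPerm g) _ _ (fun _ => rfl)
  · rw [← hcard, ← Ideal.Quotient.eq, map_mul, map_sum, Finset.sum_congr rfl (fun q _ => ?_),
      Finset.sum_const, Finset.card_univ, nsmul_eq_mul, ← map_natCast (Ideal.Quotient.mk I),
      ← mul_assoc, ← map_mul, ← hc, c.inv_mul, map_one, one_mul]
    induction q using QuotientGroup.induction_on with
    | _ x => exact Ideal.Quotient.eq.mpr (hN x)

end Groth.Agent.ZeroCycLib
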