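import Mathlib

/-! Multinomial valuations, and Hirzebruch's characterisation of the Todd series. -/

namespace Groth.Agent.ZeroCycLib

open Finset

theorem padic_sum_factorial_le (p : ℕ) [Fact p.Prime] {ι : Type*} (s : Finset ι) (a : ι → ℕ) :
    ∑ i ∈ s, padicValNat p (a i).factorial ≤ padicValNat p (∑ i ∈ s, a i).factorial := by
  classical
  induction s using Finset.induction_on with
  | empty => simp
  | insert j s hj ih =>
    rw [sum_insert hj, sum_insert hj]
    refine le_trans (Nat.add_le_add_left ih _) ?_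
    rw [← padicValNat.mul (Nat.factorial_ne_zero _) (Nat.factorial_ne_zero _)]
    exact padicValNat_le_of_dvd (Nat.factorial_ne_zero _) (Nat.factorial_mul_factorial_dvd_factorial_add _ _)
where
  padicValNat_le_of_dvd {x y : ℕ} (hy : y ≠ 0) (h : x ∣ y) : padicValNat p x ≤ padicValNat p y := by
    obtain ⟨c, rfl⟩ := h
    obtain ⟨hx, hc⟩ := mul_ne_zero_iff.mp hy
    rw [padicValNat.mul hx hc]
    omega

theorem padic_sum_factorial_lt (p : ℕ) [Fact p.Prime] {ι : Type*} [Fintype ι] (a : ι → ℕ)
    (ha : ∀ i, 0 < a i) (i : ι) (hi : ¬ p ^ padicValNat p (∑ j, a j) ∣ a i) :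
    ∑ i, padicValNat p (a i).factorial < padicValNat p (∑ i, a i).factorial := by
  classical
  obtain ⟨b, hb⟩ : ∃ b, a i = b + 1 := ⟨a i - 1, by have := ha i; omega⟩
  set a' := Function.update a i b
  have h1 := padic_sum_factorial_le p univ a'
  rw [← add_sum_erase _ (fun j => padicValNat p (a' j).factorial) (mem_univ i),
    ← add_sum_erase _ a' (mem_univ i),
    sum_congr rfl (fun j hj => by simp only [a', Function.update_of_ne (ne_of_mem_erase hj)] :
      ∀ j ∈ univ.erase i, padicValNat p (a' j).factorial = padicValNat p (a j).factorial),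
    sum_congr rfl (fun j hj => by simp only [a', Function.update_of_ne (ne_of_mem_erase hj)] :
      ∀ j ∈ univ.erase i, a' j = a j),
    show a' i = b from Function.update_self ..] at h1
  rw [← add_sum_erase _ (fun j => padicValNat p (a j).factorial) (mem_univ i)]
  rw [← add_sum_erase _ a (mem_univ i), hb] at hi ⊢
  set S := ∑ j ∈ univ.erase i, a j
  rw [padicValNat_dvd_iff_le (by omega)] at hi
  rw [Nat.factorial_succ, padicValNat.mul (by omega) (Nat.factorial_ne_zero _),
    show b + 1 + S = (b + S) + 1 by omega, Nat.factorial_succ,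
    padicValNat.mul (by omega) (Nat.factorial_ne_zero _)]
  rw [show b + 1 + S = (b + S) + 1 by omega] at hi
  omega

open PowerSeries

variable {f : PowerSeries ℚ}

theorem constantCoeff_todd (hf : f * (exp ℚ - 1) = X * exp ℚ) : constantCoeff f = 1 := by
  have h := congrArg (coeff 1) hf
  rw [coeff_mul, Finset.Nat.antidiagonal_succ] at h
  simpa [coeff_exp, coeff_succ_X_mul, coeff_one] using h

/-- `rescale m (exp)` -/
noncomputable abbrev expM (m : ℤ) : PowerSeries ℚ := rescale (m : ℚ) (exp ℚ)

theorem expM_mul (a b : ℤ) : expM a * expM b = expM (a + b) := by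
  rw [expM, expM, expM, Int.cast_add, exp_mul_exp_eq_exp_add]

theorem expM_zero : expM 0 = 1 := by
  rw [expM, Int.cast_zero, rescale_zero_apply, constantCoeff_exp, map_one]

theorem expM_one : expM 1 = exp ℚ := by
  rw [expM, Int.cast_one, rescale_one, RingHom.id_apply]

theorem f_mul_one_sub (hf : f * (exp ℚ - 1) = X * exp ℚ) : f * (1 - expM (-1)) = X := by
  have h : exp ℚ * expM (-1) = 1 := by
    rw [← expM_one, expM_mul, add_neg_cancel, expM_zero]
  calc f * (1 - expM (-1)) = f * (exp ℚ * expM (-1) - expM (-1)) := by rw [h]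
    _ = (f * (exp ℚ - 1)) * expM (-1) := by ring
    _ = X := by rw [hf, mul_assoc, h, mul_one]

theorem X_mul_deriv (hf : f * (exp ℚ - 1) = X * exp ℚ) :
    X * (PowerSeries.derivative ℚ f) = f + X * f - f ^ 2 := by
  have hd : PowerSeries.derivative ℚ (exp ℚ) = exp ℚ := PowerSeries.derivative_exp ℚ
  have h := congrArg (PowerSeries.derivative ℚ) hf
  rw [Derivation.leibniz, Derivation.leibniz, map_sub, hd, PowerSeries.derivative_X,
    Derivation.map_one_eq_zero, sub_zero] at h
  simp only [smul_eq_mul] at h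
  have he : exp ℚ ≠ 0 := fun h0 => by simpa using congrArg constantCoeff h0
  apply mul_left_cancel₀ he
  linear_combination f * h - PowerSeries.derivative ℚ f * hf

theorem coeff_todd_pow (hf : f * (exp ℚ - 1) = X * exp ℚ) (n : ℕ) :
    coeff n (f ^ (n + 1)) = 1 := by
  induction n with
  | zero => simp [constantCoeff_todd hf]
  | succ n ih =>
    have h : X * PowerSeries.derivative ℚ (f ^ (n + 1)) =
        (n + 1 : ℕ) • (f ^ (n + 1) + X * f ^ (n + 1) - f ^ (n + 2)) := by
      rw [PowerSeries.derivative_pow, Nat.add_sub_cancel, nsmul_eq_mul,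
        show X * ((↑(n + 1) : PowerSeries ℚ) * f ^ n * PowerSeries.derivative ℚ f) =
          (↑(n + 1) : PowerSeries ℚ) * f ^ n * (X * PowerSeries.derivative ℚ f) by ring,
        X_mul_deriv hf]
      push_cast
      ring
    have h2 := congrArg (coeff (n + 1)) h
    rw [map_nsmul, map_sub, map_add, coeff_succ_X_mul, coeff_succ_X_mul,
      PowerSeries.coeff_derivative, ih, nsmul_eq_mul] at h2
    have hne : ((n + 1 : ℕ) : ℚ) ≠ 0 := Nat.cast_ne_zero.mpr (by omega)
    apply mul_left_cancel₀ hne
    push_cast at h2 ⊢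
    linear_combination h2

theorem coeff_expM_todd (hf : f * (exp ℚ - 1) = X * exp ℚ) (n : ℕ) (m : ℤ) :
    coeff n (expM m * f ^ (n + 1)) = ((Ring.choose (m + n : ℤ) n : ℤ) : ℚ) := by
  induction n generalizing m with
  | zero =>
    have : constantCoeff (expM m) = 1 := by
      rw [← coeff_zero_eq_constantCoeff_apply, expM, coeff_rescale]
      simp
    simp [constantCoeff_todd hf, this]
  | succ n ih =>
    have hrec : ∀ m : ℤ, coeff (n + 1) (expM m * f ^ (n + 1 + 1)) =
        coeff (n + 1) (expM (m - 1) * f ^ (n + 1 + 1)) +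
          ((Ring.choose (m + n : ℤ) n : ℤ) : ℚ) := fun m => by
      have e : expM m * f ^ (n + 1 + 1) - expM (m - 1) * f ^ (n + 1 + 1) =
          X * (expM m * f ^ (n + 1)) := by
        rw [sub_eq_add_neg m 1, ← expM_mul]
        linear_combination (expM m * f ^ (n + 1)) * f_mul_one_sub hf
      have := congrArg (coeff (n + 1)) e
      rw [map_sub, coeff_succ_X_mul, ih] at this
      linarith
    have hch : ∀ m : ℤ, Ring.choose (m + (n + 1 : ℕ) : ℤ) (n + 1) =
        Ring.choose (m + n : ℤ) n + Ring.choose (m - 1 + (n + 1 : ℕ) : ℤ) (n + 1) := fun m => by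
      rw [show m - 1 + ((n + 1 : ℕ) : ℤ) = m + n by push_cast; ring,
        show m + ((n + 1 : ℕ) : ℤ) = m + n + 1 by push_cast; ring, Ring.choose_succ_succ]
    induction m using Int.induction_on with
    | zero =>
      rw [expM_zero, one_mul, coeff_todd_pow hf, zero_add, Ring.choose_natCast, Nat.choose_self]
      simp
    | succ i hi =>
      rw [hrec, hch, add_sub_cancel_right, hi]
      push_cast
      ring
    | pred i hi =>
      rw [hrec, hch] at hi
      push_cast at hi ⊢
      linarith

theorem todd_iff (f : PowerSeries ℚ) :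
    (∀ n : ℕ, coeff n (f ^ (n + 1)) = 1) ↔ f * (exp ℚ - 1) = X * exp ℚ := by
  refine ⟨fun h => ?_, fun hf n => coeff_todd_pow hf n⟩
  have hB : bernoulli'PowerSeries ℚ * (exp ℚ - 1) = X * exp ℚ :=
    bernoulli'PowerSeries_mul_exp_sub_one ℚ
  suffices f = bernoulli'PowerSeries ℚ by rw [this, hB]
  set g := bernoulli'PowerSeries ℚ with hg
  have hf0 : constantCoeff f = 1 := by simpa using h 0
  have hg0 : constantCoeff g = 1 := constantCoeff_todd hB
  ext n
  induction n using Nat.strong_induction_on with
  | _ n ih =>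
    obtain ⟨q, hq⟩ : (X : PowerSeries ℚ) ^ n ∣ f - g :=
      X_pow_dvd_iff.mpr fun j hj => by rw [map_sub, ih j hj, sub_self]
    have hfg := congrArg (coeff n) (geom_sum₂_mul f g (n + 1))
    rw [map_sub, h n, coeff_todd_pow hB, sub_self, hq,
      show (∑ i ∈ range (n + 1), f ^ i * g ^ (n + 1 - 1 - i)) * (X ^ n * q) =
        X ^ n * ((∑ i ∈ range (n + 1), f ^ i * g ^ (n + 1 - 1 - i)) * q) by ring,
      coeff_X_pow_mul' (d := n), if_pos le_rfl, Nat.sub_self, coeff_zero_eq_constantCoeff_apply,
      map_mul, map_sum] at hfg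
    simp only [map_mul, map_pow, hf0, hg0, one_pow, mul_one, sum_const, card_range,
      nsmul_eq_mul] at hfg
    have hne : ((n + 1 : ℕ) : ℚ) ≠ 0 := Nat.cast_ne_zero.mpr (by omega)
    have hq0 : constantCoeff q = 0 := (mul_eq_zero.mp hfg).resolve_left hne
    have := congrArg (coeff n) hq
    rw [map_sub, coeff_X_pow_mul' (d := n), if_pos le_rfl, Nat.sub_self,
      coeff_zero_eq_constantCoeff_apply, hq0, sub_eq_zero] at this
    exact this

end Groth.Agent.ZeroCycLib
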