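import Mathlib

/-! The truncated binomial expansion of `r ^ n` and its Stirling form. -/

universe u

namespace Groth.Agent.ZeroCycLib

open Finset Polynomial

variable {R : Type u} [CommRing R] [Algebra ℚ R]

theorem pow_truncated (r : R) (δ : ℕ) (hr : (r - 1) ^ (δ + 1) = 0) (n : ℕ) :
    r ^ n = ∑ k ∈ range (δ + 1),
      ((descPochhammer ℚ k).eval (n : ℚ) / (k.factorial : ℚ)) • (r - 1) ^ k := by
  set x := r - 1 with hx
  have hk : ∀ k, ((descPochhammer ℚ k).eval (n : ℚ) / (k.factorial : ℚ)) • x ^ k =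
      (n.choose k : R) * x ^ k := fun k => by
    rw [descPochhammer_eval_eq_descFactorial, Nat.descFactorial_eq_factorial_mul_choose,
      Nat.cast_mul, mul_div_cancel_left₀ _ (Nat.cast_ne_zero.mpr k.factorial_ne_zero),
      Algebra.smul_def, map_natCast]
  simp_rw [hk]
  have h0 : ∀ k, δ + 1 ≤ k → x ^ k = 0 := fun k hle => by
    rw [← Nat.add_sub_of_le hle, pow_add, hr, zero_mul]
  have hb : r ^ n = ∑ k ∈ range (n + 1), (n.choose k : R) * x ^ k := by
    rw [show r = x + 1 by rw [hx, sub_add_cancel], add_pow]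
    exact sum_congr rfl fun k _ => by rw [one_pow, mul_one, mul_comm]
  rw [hb]
  rcases le_total (n + 1) (δ + 1) with h | h
  · refine sum_subset (range_subset_range.mpr h) fun k _ hk' => ?_
    rw [Nat.choose_eq_zero_of_lt (by simpa using hk'), Nat.cast_zero, zero_mul]
  · exact (sum_subset (range_subset_range.mpr h) fun k _ hk' => by
      rw [h0 k (by simpa using hk'), mul_zero]).symm

theorem stirling_expansion (r : R) (δ : ℕ) :
    (∑ k ∈ range (δ + 1), ((k.factorial : ℚ)⁻¹ • (descPochhammer R k * C ((r - 1) ^ k))) =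
      ∑ j ∈ range (δ + 1), C (∑ k ∈ range (δ + 1), ∑ u ∈ range (k + 1),
        (((-1 : ℚ) ^ (k - u) * (((descPochhammer ℤ k).coeff j : ℤ) : ℚ)) /
          ((u.factorial * (k - u).factorial : ℕ) : ℚ)) • r ^ u) * X ^ j) := by
  have hterm : ∀ j k, ((k.factorial : ℚ)⁻¹ • ((((descPochhammer ℤ k).coeff j : ℤ) : R) * (r - 1) ^ k)) =
      ∑ u ∈ range (k + 1), (((-1 : ℚ) ^ (k - u) * (((descPochhammer ℤ k).coeff j : ℤ) : ℚ)) /
          ((u.factorial * (k - u).factorial : ℕ) : ℚ)) • r ^ u := fun j k => by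
    rw [sub_eq_add_neg, add_pow, mul_sum, smul_sum]
    refine sum_congr rfl fun u hu => ?_
    have hle : u ≤ k := by simpa [Nat.lt_succ_iff] using hu
    simp only [Algebra.smul_def, div_eq_mul_inv, map_mul, map_pow, map_neg, map_one, map_intCast]
    have hfac : algebraMap ℚ R ((k.choose u : ℕ) : ℚ) * algebraMap ℚ R (k.factorial : ℚ)⁻¹ =
        algebraMap ℚ R ((u.factorial * (k - u).factorial : ℕ) : ℚ)⁻¹ := by
      rw [← map_mul]
      congr 1
      rw [← Nat.choose_mul_factorial_mul_factorial hle]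
      push_cast
      have h1 : (k.choose u : ℚ) ≠ 0 := Nat.cast_ne_zero.mpr (Nat.choose_pos hle).ne'
      field_simp
    rw [map_natCast] at hfac
    rw [← hfac]
    ring
  ext j
  simp only [finsetSum_coeff, coeff_smul, coeff_mul_C, coeff_C_mul_X_pow]
  rw [Finset.sum_ite_eq]
  have hmap : ∀ k, (descPochhammer R k).coeff j = (((descPochhammer ℤ k).coeff j : ℤ) : R) :=
    fun k => by rw [← descPochhammer_map (Int.castRingHom R) k, coeff_map, eq_intCast]
  simp_rw [hmap, hterm j]
  split_ifs with hj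
  · rfl
  · refine sum_eq_zero fun k hk => ?_
    have h0 : (descPochhammer ℤ k).coeff j = 0 := by
      refine coeff_eq_zero_of_natDegree_lt ?_
      rw [descPochhammer_natDegree]
      simp only [mem_range] at hk hj
      omega
    simp [h0]

end Groth.Agent.ZeroCycLib
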