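import Mathlib

/-! The symmetric part of the fourth power of the diagonal ideal. -/

universe u

open scoped TensorProduct Pointwise

namespace Groth.Agent.ZeroCycLib

theorem comap_pow_four (k R : Type u) [Field k] [NeZero (2 : k)] [CommRing R] [Algebra k R] :
    Ideal.comap
        (AlgHom.equalizer ((Algebra.TensorProduct.comm k R R : R ⊗[k] R ≃ₐ[k] R ⊗[k] R) : R ⊗[k] R →ₐ[k] R ⊗[k] R)
          (AlgHom.id k (R ⊗[k] R))).val
        (KaehlerDifferential.ideal k R ^ 4) =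
      (Ideal.comap
        (AlgHom.equalizer ((Algebra.TensorProduct.comm k R R : R ⊗[k] R ≃ₐ[k] R ⊗[k] R) : R ⊗[k] R →ₐ[k] R ⊗[k] R)
          (AlgHom.id k (R ⊗[k] R))).val
        (KaehlerDifferential.ideal k R ^ 2)) ^ 2 := by
  set σ : R ⊗[k] R →ₐ[k] R ⊗[k] R :=
    ((Algebra.TensorProduct.comm k R R : R ⊗[k] R ≃ₐ[k] R ⊗[k] R) : R ⊗[k] R →ₐ[k] R ⊗[k] R) with hσdef
  set F := AlgHom.equalizer σ (AlgHom.id k (R ⊗[k] R))
  set I := KaehlerDifferential.ideal k R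
  set J := Ideal.comap F.val (I ^ 2)
  have hmemF : ∀ z, σ z = z → z ∈ F := fun z h => by simpa [F] using h
  refine le_antisymm ?_ ?_
  swap
  · intro x hx
    rw [Ideal.mem_comap, show (4 : ℕ) = 2 * 2 from rfl, pow_mul]
    have := Ideal.mem_map_of_mem F.val.toRingHom hx
    rw [Ideal.map_pow] at this
    exact Ideal.pow_right_mono (Ideal.map_comap_le (f := F.val.toRingHom) (K := I ^ 2)) 2 this
  let δ : R → R ⊗[k] R := fun a => 1 ⊗ₜ a - a ⊗ₜ 1
  have hI : I = Ideal.span (Set.range δ) := (KaehlerDifferential.span_range_eq_ideal k R).symm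
  have hσδ : ∀ a, σ (δ a) = - δ a := fun a => by simp [δ, σ]
  have hσσ : ∀ z, σ (σ z) = z := fun z => by
    induction z using TensorProduct.induction_on with
    | zero => simp
    | tmul a b => simp [σ]
    | add a b ha hb => simp only [map_add, ha, hb]
  -- the additive set of elements whose symmetrization lands in `J ^ 2`
  let P : AddSubmonoid (R ⊗[k] R) :=
    { carrier := {z | ∃ y : F, y ∈ J ^ 2 ∧ (y : R ⊗[k] R) = z + σ z}
      zero_mem' := ⟨0, zero_mem _, by simp⟩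
      add_mem' := by
        rintro a b ⟨y, hy, hy'⟩ ⟨w, hw, hw'⟩
        exact ⟨y + w, add_mem hy hw, by rw [map_add, Subalgebra.coe_add, hy', hw']; abel⟩ }
  let G : Set (R ⊗[k] R) := {u | ∃ a b, u = δ a * δ b}
  have hI2 : I ^ 2 = Ideal.span G := by
    rw [pow_two, hI, Ideal.span_mul_span']
    congr 1
    ext u
    simp only [Set.mem_mul, Set.mem_range, G, Set.mem_ofPred_eq]
    constructor
    · rintro ⟨_, ⟨a, rfl⟩, _, ⟨b, rfl⟩, rfl⟩; exact ⟨a, b, rfl⟩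
    · rintro ⟨a, b, rfl⟩; exact ⟨_, ⟨a, rfl⟩, _, ⟨b, rfl⟩, rfl⟩
  have hgen : ∀ (r : R ⊗[k] R), ∀ u ∈ G, ∀ v ∈ G, r * (u * v) ∈ P := by
    rintro r _ ⟨a, b, rfl⟩ _ ⟨c, d, rfl⟩
    have hfix : ∀ a b, σ (δ a * δ b) = δ a * δ b := fun a b => by
      rw [map_mul, hσδ, hσδ, neg_mul_neg]
    have hsym : σ (r + σ r) = r + σ r := by rw [map_add, hσσ, add_comm]
    have m1 : (⟨δ c * δ d, hmemF _ (hfix c d)⟩ : F) ∈ J := by
      rw [Ideal.mem_comap, hI2]
      exact Ideal.subset_span ⟨c, d, rfl⟩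
    have m2 : (⟨(r + σ r) * (δ a * δ b), hmemF _ (by rw [map_mul, hsym, hfix])⟩ : F) ∈ J := by
      rw [Ideal.mem_comap, hI2]
      exact Ideal.mul_mem_left _ _ (Ideal.subset_span ⟨a, b, rfl⟩)
    refine ⟨⟨(r + σ r) * (δ a * δ b), hmemF _ (by rw [map_mul, hsym, hfix])⟩ *
      ⟨δ c * δ d, hmemF _ (hfix c d)⟩, by rw [pow_two]; exact Ideal.mul_mem_mul m2 m1, ?_⟩
    show ((r + σ r) * (δ a * δ b)) * (δ c * δ d) = r * (δ a * δ b * (δ c * δ d)) +
      σ (r * (δ a * δ b * (δ c * δ d)))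
    have : σ (r * (δ a * δ b * (δ c * δ d))) = σ r * (δ a * δ b * (δ c * δ d)) := by
      simp only [map_mul, hσδ]
      ring
    rw [this]
    ring
  have hP : ∀ z ∈ I ^ 4, z ∈ P := by
    intro z hz
    rw [show (4 : ℕ) = 2 * 2 from rfl, pow_mul, hI2, pow_two, Ideal.span_mul_span'] at hz
    rw [Submodule.mem_span_set'] at hz
    obtain ⟨n, f, g, rfl⟩ := hz
    refine sum_mem fun i _ => ?_
    obtain ⟨u, hu, v, hv, huv⟩ := Set.mem_mul.mp (g i).2
    rw [smul_eq_mul, ← huv]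
    exact hgen _ u hu v hv
  intro x hx
  obtain ⟨y, hy, hy'⟩ := hP _ hx
  have h2 : (algebraMap k F (2 : k)⁻¹) * y = x := by
    apply Subtype.ext
    have hx' : σ (x : R ⊗[k] R) = x := (AlgHom.mem_equalizer _ _ _).mp x.2
    have hval : (y : R ⊗[k] R) = (2 : k) • (x : R ⊗[k] R) := by
      rw [two_smul, hy']
      show (x : R ⊗[k] R) + σ (x : R ⊗[k] R) = _
      rw [hx']
    rw [Subalgebra.coe_mul, hval, Subalgebra.coe_algebraMap, ← Algebra.smul_def, smul_smul,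
      inv_mul_cancel₀ (NeZero.ne (2 : k)), one_smul]
  rw [← h2]
  exact Ideal.mul_mem_left _ _ hy

end Groth.Agent.ZeroCycLib
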